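import Groth.Agent.EtDual.K336.StrictAbs
import Groth.Agent.CurvesC.HomVanish
import Groth.Agent.CohtopB.ExactDerAdj
import Groth.Agent.Sga4h.BidIndLoc48

/-!
# A uniform bound for the dual at a closed point, abstract form

* `eq_zero_of_ses`: vanishing of `Hom(-, Y)` in extensions;
* `eq_zero_P`: `Hom(P, (D F)[q]) = 0` for `q ≠ c`, if `P` is injective with `D P ≅ P[-c]`;
* `eq_zero_ext`: `Hom(P[0], E[q]) = 0` for `E ∈ D^{≤ b}` and `q > b + d`, if `Ext^n(P, -) = 0` for `n > d`;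
* `eq_zero_unit`: `Hom(I, (D F)[q]) = 0` for `q > max(c, b + d)`.
-/

set_option autoImplicit false
set_option backward.defeqAttrib.useBackward true
set_option backward.isDefEq.respectTransparency false

universe w w₂ w' v₁ u₁ v₂ u₂

namespace K141.BdAbs

open CategoryTheory Category Limits HomologicalComplex Opposite ZeroObject Pretriangulated
open Groth.Agent.Sga4h.DualCx Groth.Agent.Sga4h.DualSelf Groth.Agent.Sga4h.Refl
open Groth.Agent.Sga4h Groth.Agent.Sga4h.BidGlobU DerivedCategory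
open Groth.Agent.EtDual.K336 Groth.Agent.EtDual.K336.StrictAbs Groth.Agent

section Basic

variable {C : Type u₁} [Category.{v₁} C] [Abelian C] [HasDerivedCategory.{w} C]

/-- Vanishing of `Hom(-, Y)` in extensions. -/
theorem eq_zero_of_ses (S : ShortComplex C) (hS : S.ShortExact) (Y : DerivedCategory C)
    (h1 : ∀ f : (singleFunctor C 0).obj S.X₁ ⟶ Y, f = 0) (h3 : ∀ f : (singleFunctor C 0).obj S.X₃ ⟶ Y, f = 0)
    (f : (singleFunctor C 0).obj S.X₂ ⟶ Y) : f = 0 := by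
  obtain ⟨g, hg⟩ := Triangle.yoneda_exact₂ _ hS.singleTriangle_distinguished f (h1 _)
  have h : g = 0 := h3 g
  rw [hg, h]
  exact comp_zero

/-- `Hom(P[0], E[q]) = 0` for `E ∈ D^{≤ b}` and `q > b + d`. -/
theorem eq_zero_ext [HasExt.{w'} C] (P : C) (d : ℕ)
    (hP : ∀ (n : ℕ) (Z : C), d < n → ∀ e : Abelian.Ext.{w'} P Z n, e = 0)
    (E : DerivedCategory C) (b : ℤ) (hE : E.IsLE b) (q : ℤ) (hq : b + d < q)
    (f : (singleFunctor C 0).obj P ⟶ E⟦q⟧) : f = 0 := by
  obtain ⟨n, hn, hdn⟩ : ∃ n : ℕ, (n : ℤ) = q - b ∧ d < n := ⟨(q - b).toNat, by lia, by lia⟩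
  have h1 : (E⟦q⟧).IsLE (-(n : ℤ)) := TStructure.t.isLE_shift E b q (-(n : ℤ)) (by lia)
  refine CurvesC.HomVanish.hom_eq_zero (-(n : ℤ)) (by lia) (fun Z x => ?_) (E⟦q⟧) f
  have e := ((singleFunctors C).shiftIso (n : ℤ) (-(n : ℤ)) 0 (by simp)).app Z
  have h2 : x ≫ e.inv = 0 := by
    apply (Abelian.Ext.homEquiv (X := P) (Y := Z) (n := n)).symm.injective
    exact (hP n Z hdn _).trans (hP n Z hdn _).symm
  rw [← cancel_mono e.inv, h2, zero_comp]

/-- `Hom(I, H^q(Y)) = 0` if `Hom(I[0], Y[q]) = 0`, `I` projective. -/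
theorem eq_zero_homology (I : C) [Projective I] (Y : CochainComplex C ℤ) (q : ℤ)
    (h : ∀ φ : (singleFunctor C 0).obj I ⟶ (Q.obj Y)⟦q⟧, φ = 0) (f : I ⟶ Y.homology q) : f = 0 := by
  obtain ⟨e1⟩ := nonempty_homProj I (Q.obj Y) q
  let e2 := (homologyFunctorFactors C q).app Y
  apply (homAddCongr (Iso.refl I) e2.symm).injective
  apply e1.symm.injective
  exact (h _).trans (h _).symm

end Basic

section Dual

variable {C : Type u₁} [Category.{v₁} C] [Abelian C] [HasDerivedCategory.{w} C] {T : C ⥤ C ⥤ C} [T.Additive]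
  [∀ X, (T.obj X).Additive]
  [∀ (K₁ K₂ : CochainComplex C ℤ), CochainComplex.HasMapBifunctor K₁ K₂ T]
  [∀ E : CochainComplex C ℤ, (T.map₂CochainComplex.flip.obj E).IsLeftAdjoint]
  [∀ (J : Type), HasColimitsOfShape (Discrete J) C]
  [∀ (J : Type), (colim : (Discrete J ⥤ C) ⥤ C).PreservesMonomorphisms]
  (A : DualData T)

/-- `Hom(P, (D F)[q]) = 0` for `q ≠ c`, if `P` is injective with `D P ≅ P[-c]`. -/
theorem eq_zero_P {P : C} [Injective P] {c : ℤ}
    (hc : Nonempty (Q.obj (A.D ((CochainComplex.singleFunctor C 0).obj P)) ≅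
      (Q.obj ((CochainComplex.singleFunctor C 0).obj P))⟦-c⟧)) (F : C) (q : ℤ) (hq : q ≠ c)
    (f : (singleFunctor C 0).obj P ⟶ (Q.obj (A.D ((CochainComplex.singleFunctor C 0).obj F)))⟦q⟧) : f = 0 := by
  obtain ⟨z⟩ := hc
  let eP : (singleFunctor C 0).obj P ≅ Q.obj ((CochainComplex.singleFunctor C 0).obj P) :=
    (singleFunctorIsoCompQ C 0).app P
  let eF : (singleFunctor C 0).obj F ≅ Q.obj ((CochainComplex.singleFunctor C 0).obj F) :=
    (singleFunctorIsoCompQ C 0).app F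
  obtain ⟨e1⟩ := nonempty_selfAddEquiv_shift A ((CochainComplex.singleFunctor C 0).obj F)
    ((CochainComplex.singleFunctor C 0).obj P) q
  let e2 : (Q.obj (A.D ((CochainComplex.singleFunctor C 0).obj P)))⟦q⟧ ≅ ((singleFunctor C 0).obj P)⟦q - c⟧ :=
    (CategoryTheory.shiftFunctor _ q).mapIso z ≪≫
      ((CategoryTheory.shiftFunctorAdd' (DerivedCategory C) (-c) q (q - c) (by lia)).app _).symm ≪≫
      (CategoryTheory.shiftFunctor _ (q - c)).mapIso eP.symm
  obtain ⟨e3⟩ := nonempty_homInj P ((singleFunctor C 0).obj F) (q - c)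
  have hz : IsZero ((homologyFunctor C (-(q - c))).obj ((singleFunctor C 0).obj F)) := by
    rcases lt_or_gt_of_ne (show -(q - c) ≠ 0 by lia) with h | h
    · exact isZero_of_isGE _ 0 _ h
    · exact isZero_of_isLE _ 0 _ h
  apply (homAddCongr eP (Iso.refl ((Q.obj (A.D ((CochainComplex.singleFunctor C 0).obj F)))⟦q⟧))).injective
  apply e1.injective
  apply (homAddCongr eF.symm e2).injective
  apply e3.injective
  exact hz.eq_of_src _ _

end Dual

section Loc

variable {C : Type u₁} [Category.{v₁} C] [Abelian C] [HasDerivedCategory.{w} C] {T : C ⥤ C ⥤ C} [T.Additive]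
  [∀ X, (T.obj X).Additive]
  [∀ (K₁ K₂ : CochainComplex C ℤ), CochainComplex.HasMapBifunctor K₁ K₂ T]
  [∀ E : CochainComplex C ℤ, (T.map₂CochainComplex.flip.obj E).IsLeftAdjoint]
  [∀ (J : Type), HasColimitsOfShape (Discrete J) C]
  [∀ (J : Type), (colim : (Discrete J ⥤ C) ⥤ C).PreservesMonomorphisms]
  (A : DualData T)
  {B : Type u₂} [Category.{v₂} B] [Abelian B] [HasDerivedCategory.{w₂} B] [HasExt.{w'} B]
  {L : B ⥤ C} {R : C ⥤ B} (adj : L ⊣ R) [L.Additive] [R.Additive]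
  [PreservesFiniteLimits L] [PreservesFiniteColimits L]
  [PreservesFiniteLimits R] [PreservesFiniteColimits R]

/-- The homology of `R K`. -/
theorem isLE_R (K : CochainComplex C ℤ) (b : ℤ) (h : ∀ q, b < q → IsZero (R.obj (K.homology q))) :
    (R.mapDerivedCategory.obj (Q.obj K)).IsLE b := by
  rw [isLE_iff]
  intro q hq
  refine (h q hq).of_iso ?_
  exact (homologyFunctor B q).mapIso (R.mapDerivedCategoryFactors.app K) ≪≫
    (homologyFunctorFactors B q).app _ ≪≫ BidIndLoc48.homologyMapIso R K q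

include adj in
/-- **Vanishing of `Hom(I, (D F)[q])`** for `q > max(c, b + d)`. -/
theorem eq_zero_unit {I P : C} [Injective P] {c : ℤ}
    (hc : Nonempty (Q.obj (A.D ((CochainComplex.singleFunctor C 0).obj P)) ≅
      (Q.obj ((CochainComplex.singleFunctor C 0).obj P))⟦-c⟧))
    (f : L.obj (R.obj I) ⟶ I) (g : I ⟶ P) (w : f ≫ g = 0) (hS : (ShortComplex.mk f g w).ShortExact)
    (d : ℕ) (hd : ∀ (n : ℕ) (Z : B), d < n → ∀ e : Abelian.Ext.{w'} (R.obj I) Z n, e = 0)
    (F : C) (b : ℤ) (hb : ∀ q, b < q →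
      IsZero (R.obj ((A.D ((CochainComplex.singleFunctor C 0).obj F)).homology q))) (q : ℤ) (hqc : c < q)
    (hqb : b + d < q)
    (φ : (singleFunctor C 0).obj I ⟶ (Q.obj (A.D ((CochainComplex.singleFunctor C 0).obj F)))⟦q⟧) : φ = 0 := by
  refine eq_zero_of_ses _ hS _ (fun ψ => ?_) (fun ψ => eq_zero_P A hc F q (by lia) ψ) φ
  apply (CohtopB.ExactDerAdj.homEquivSingle adj (R.obj I)
    (Q.obj (A.D ((CochainComplex.singleFunctor C 0).obj F))) q).injective
  rw [map_zero]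
  exact eq_zero_ext (R.obj I) d hd _ b (isLE_R _ b hb) q hqb _

end Loc

end K141.BdAbs
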