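import Groth.Agent.Etbc.H212.CdMV
import Groth.Agent.S3736
import Groth.Agent.Etcore.Torsion
import Groth.Agent.Etdl.H434.Defs
import Groth.Agent.EtDual.K336.GlobZ

/-!
# Cohomological dimension of quasi-compact open subschemes

* `cohDimLE_union`: Mayer–Vietoris;
* `exists_cohDim`: the punctured spectrum of `K[[x_1, …, x_M]]`, `K` algebraically closed of characteristic zero, has
  finite étale cohomological dimension.
-/

set_option autoImplicit false
universe u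

open CategoryTheory CategoryTheory.Limits AlgebraicGeometry Opposite

namespace K141.BdCd

open Groth.Agent Groth.Agent.EtpbcA Groth.Agent.Etbc.H212.CdAt

variable {X Y : Scheme.{u}}

theorem isTorsion_pull (f : X ⟶ Y) {F : EtCoh.Ab Y} (hF : EtCoh.IsTorsion F) :
    EtCoh.IsTorsion ((EtCoh.pull f).obj F) := Groth.Agent.Etcore.Torsion.isTorsion_pull f F hF

theorem cohDimLE_mono {a b : ℕ} (hab : a ≤ b) (h : EtCoh.CohDimLE X a) :
    EtCoh.CohDimLE X b := fun F hF q hq => h F hF q (by omega)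

theorem cohDimLE_of_iso (e : X ≅ Y) (d : ℕ) (h : EtCoh.CohDimLE X d) : EtCoh.CohDimLE Y d :=
  have := CdExact.push_isEquivalence_of_isIso e.hom
  fun F hF q hq => (CdExact.H_pull_iff_of_isEquivalence e.hom F q).1 (h _ (isTorsion_pull e.hom hF) q hq)

theorem cohDimLE_top {d : ℕ} (U V : X.Opens) (hUV : U ⊔ V = ⊤)
    (hU : EtCoh.CohDimLE (U : Scheme.{u}) d) (hV : EtCoh.CohDimLE (V : Scheme.{u}) d)
    (hW : EtCoh.CohDimLE ((U ⊓ V : X.Opens) : Scheme.{u}) d) : EtCoh.CohDimLE X (d + 1) := by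
  intro F hF q hq
  obtain ⟨n, rfl⟩ : ∃ n, q = n + 1 := ⟨q - 1, by omega⟩
  have hpf : ∀ {A B : Scheme.{u}} (f : A ⟶ B), PreservesFiniteLimits (EtCoh.pull f) :=
    fun f => Groth.Agent.S0101.result f
  have i1 := hpf U.ι
  have i2 := hpf V.ι
  have i3 := hpf (X.homOfLE (inf_le_left : U ⊓ V ≤ U))
  have i4 := hpf (X.homOfLE (inf_le_right : U ⊓ V ≤ V))
  obtain ⟨δ, -, h2, -, -⟩ := Groth.Agent.S0659.result X U V hUV F
  have s1 : Subsingleton (EtCoh.H (U : Scheme.{u}) ((EtCoh.pull U.ι).obj F) (n + 1)) :=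
    hU _ (isTorsion_pull U.ι hF) _ (by omega)
  have s2 : Subsingleton (EtCoh.H (V : Scheme.{u}) ((EtCoh.pull V.ι).obj F) (n + 1)) :=
    hV _ (isTorsion_pull V.ι hF) _ (by omega)
  have s3 : Subsingleton (EtCoh.H ((U ⊓ V : X.Opens) : Scheme.{u}) ((EtCoh.pull (U ⊓ V).ι).obj F) n) :=
    hW _ (isTorsion_pull (U ⊓ V).ι hF) _ (by omega)
  refine subsingleton_of_forall_eq 0 fun x => ?_
  have hx : x ∈ (AddMonoidHom.prod (EtCore.Hpull U.ι F (n + 1)) (EtCore.Hpull V.ι F (n + 1))).ker := by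
    rw [AddMonoidHom.mem_ker]
    exact Prod.ext (Subsingleton.elim _ _) (Subsingleton.elim _ _)
  rw [h2 n] at hx
  obtain ⟨y, rfl⟩ := hx
  rw [Subsingleton.elim y 0, map_zero]

/-- Mayer–Vietoris for two opens of a scheme. -/
theorem cohDimLE_union {d : ℕ} (U V : X.Opens)
    (hU : EtCoh.CohDimLE (U : Scheme.{u}) d) (hV : EtCoh.CohDimLE (V : Scheme.{u}) d)
    (hW : EtCoh.CohDimLE ((U ⊓ V : X.Opens) : Scheme.{u}) d) :
    EtCoh.CohDimLE ((U ⊔ V : X.Opens) : Scheme.{u}) (d + 1) := by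
  let W : X.Opens := U ⊔ V
  let U' : (W : Scheme.{u}).Opens := W.ι ⁻¹ᵁ U
  let V' : (W : Scheme.{u}).Opens := W.ι ⁻¹ᵁ V
  have e : ∀ A : X.Opens, A ≤ W → Nonempty ((A : Scheme.{u}) ≅ ((W.ι ⁻¹ᵁ A : (W : Scheme.{u}).Opens) : Scheme.{u})) := by
    intro A hA
    refine ⟨IsOpenImmersion.isoOfRangeEq A.ι ((W.ι ⁻¹ᵁ A).ι ≫ W.ι) ?_⟩
    rw [Scheme.Opens.range_ι, Scheme.Hom.comp_base, TopCat.coe_comp, Set.range_comp,
      Scheme.Opens.range_ι]
    change _ = W.ι '' (W.ι ⁻¹' (A : Set X))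
    rw [Set.image_preimage_eq_inter_range, Scheme.Opens.range_ι]
    exact (Set.inter_eq_left.2 hA).symm
  refine cohDimLE_top U' V' ?_ ?_ ?_ ?_
  · change W.ι ⁻¹ᵁ U ⊔ W.ι ⁻¹ᵁ V = ⊤
    rw [← Scheme.Hom.preimage_sup]
    exact Scheme.Opens.ι_preimage_self W
  · obtain ⟨i⟩ := e U le_sup_left
    exact cohDimLE_of_iso i d hU
  · obtain ⟨i⟩ := e V le_sup_right
    exact cohDimLE_of_iso i d hV
  · obtain ⟨i⟩ := e (U ⊓ V) (inf_le_left.trans le_sup_left)
    exact cohDimLE_of_iso i d hW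

/-- Finiteness of the cohomological dimension of quasi-compact opens, from the case of affine opens. -/
theorem exists_bound (X : Scheme.{u}) [CompactSpace X] [QuasiSeparatedSpace X] {d : ℕ}
    (h : ∀ U : X.Opens, IsAffineOpen U → EtCoh.CohDimLE (U : Scheme.{u}) d) (W : X.Opens)
    (hW : IsCompact (W : Set X)) : ∃ N, EtCoh.CohDimLE (W : Scheme.{u}) N :=
  Groth.Agent.S0015.result X (fun U => ∃ N, EtCoh.CohDimLE (U : Scheme.{u}) N)
    (fun U hU => ⟨d, h U hU⟩) (by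
      rintro U V - - ⟨a, ha⟩ ⟨b, hb⟩ ⟨c, hc⟩
      refine ⟨a + b + c + 1, cohDimLE_union U V ?_ ?_ ?_⟩
      · exact cohDimLE_mono (by omega) ha
      · exact cohDimLE_mono (by omega) hb
      · exact cohDimLE_mono (by omega) hc) W hW

/-- The punctured spectrum of `K[[x_1, …, x_M]]` has finite étale cohomological dimension. -/
theorem exists_cohDim (M : ℕ) (K : Type u) [Field K] [IsAlgClosed K] [CharZero K] :
    ∃ d : ℕ, EtCoh.CohDimLE (EtDual.K336.GlobS.Up (MvPowerSeries (Fin M) K) : Scheme.{u}) d := by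
  have hN : IsNoetherianRing (MvPowerSeries (Fin M) K) := inferInstance
  have hX : IsNoetherian (Spec (CommRingCat.of (MvPowerSeries (Fin M) K))) := inferInstance
  exact exists_bound (Spec (CommRingCat.of (MvPowerSeries (Fin M) K)))
    (fun U hU => Groth.Agent.S3736.result K M U hU) _ (TopologicalSpace.NoetherianSpace.isCompact _)

end K141.BdCd
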