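import Groth.Agent.EtDepth.K141.BdTop
import Groth.Agent.EtDepth.K141.BdCd
import Groth.Agent.EtDual.K336.SPg
import Groth.Agent.EtDepth.K584.AlgBd

/-!
# The uniform bound over power series rings

`exists_isLE`: on `S = Spec K[[x_1, …, x_(M + 1)]]`, `K` algebraically closed of characteristic zero, the `D F`, `F`
constructible, are uniformly bounded above, if `BidSP m c` holds for `c ≤ M`.
-/

set_option autoImplicit false
set_option linter.unusedSectionVars false
universe u

open CategoryTheory CategoryTheory.Limits AlgebraicGeometry Opposite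

attribute [local instance 5000] CategoryTheory.Abelian.toPreadditive
  CategoryTheory.Preadditive.preadditiveHasZeroMorphisms

namespace K141.BdMain

attribute [local instance] HasDerivedCategory.standard
open scoped Groth.Agent.Sga4h.ModInst
open Groth.Agent Groth.Agent.Sga4h Groth.Agent.Sga4h.Refl DerivedCategory
open Groth.Agent.Sga4h.BidRed538Main Groth.Agent.EtDual.K336.StrictS Groth.Agent.EtDual.K336.StrictAbs
open Groth.Agent.EtDual.K336.GlobS (Up isCompl_ip)
open Groth.Agent.Sga4h.ModRestr Groth.Agent.Etdl.H434.Defs K973.Stmt K973.BidStmt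

attribute [-instance] ULift.ring

section Gen

variable {Λ : Type (u + 1)} [CommRing Λ]

theorem mem_range {U S Z : Scheme.{u}} (v : U ⟶ S) (i : Z ⟶ S) (hr : Set.range v = (Set.range i)ᶜ) (t : S)
    (ht : t ∈ Set.range i) (y : U) : v y ≠ t := by
  intro h
  have h1 : v y ∈ Set.range v := ⟨y, rfl⟩
  rw [hr, h] at h1
  exact h1 ht

/-- **The uniform bound**, general form. -/
theorem exists_isLE_gen {S U Z : Scheme.{u}} (v : U ⟶ S) [IsOpenImmersion v] (i : Z ⟶ S) [IsClosedImmersion i]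
    (hr : Set.range v = (Set.range i)ᶜ) (t : S) (ht : t ∈ Set.range i) [Projective (EtModW.constMod Λ S Λ)]
    (hz : ∀ G : EtModW.Mod Λ S, IsZero ((res Λ v).obj G) → (∀ f : EtModW.constMod Λ S Λ ⟶ G, f = 0) → IsZero G)
    (P : EtModW.Mod Λ S) (eP : (EtModW.push Λ i).obj (EtModW.constMod Λ Z Λ) ≅ P) [Injective P]
    {n : ℕ} (hn : 0 < n) (hΛ : (n : Λ) = 0) {c : ℤ}
    (dP : Nonempty (Q.obj ((stdDual Λ S).D ((CochainComplex.singleFunctor _ 0).obj P)) ≅
      (Q.obj ((CochainComplex.singleFunctor _ 0).obj P))⟦-c⟧))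
    (hd : ∃ d, EtCoh.CohDimLE U d) (b : ℤ) :
    ∃ B : ℤ, ∀ F : EtModW.Mod Λ S,
      (∀ {T' : Scheme.{u}} (g : T' ⟶ S), (∀ y : T', g y ≠ t) → ∀ q : ℤ, b < q → IsZero ((EtModW.pull Λ g).obj
        (((stdDual Λ S).D ((CochainComplex.singleFunctor _ 0).obj F)).homology q))) →
      ((stdDual Λ S).D ((CochainComplex.singleFunctor _ 0).obj F)).IsLE B := by
  obtain ⟨d, hd⟩ := hd
  refine ⟨max b (max c (b + d)), fun F hF => ?_⟩
  have hF' : ∀ q : ℤ, b < q → IsZero ((res Λ v).obj
      (((stdDual Λ S).D ((CochainComplex.singleFunctor _ 0).obj F)).homology q)) := fun q hq =>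
    (hF v (mem_range v i hr t ht) q hq).of_iso ((Groth.Agent.Sga4h.H299.ExtBC.resPull Λ v).app _).symm
  refine K141.BdTop.isLE_of_isZero _ _ fun q hq => ?_
  have h1 : b < q := lt_of_le_of_lt (le_max_left _ _) hq
  have h2 : c < q := lt_of_le_of_lt ((le_max_left _ _).trans (le_max_right _ _)) hq
  have h3 : b + d < q := lt_of_le_of_lt ((le_max_right _ _).trans (le_max_right _ _)) hq
  exact hz _ (hF' q h1) (K141.BdTop.eq_zero_homology v i hr P eP hn hΛ dP d hd F b hF' q h2 h3)

/-- Change of the presentation of the coefficients and of the base. -/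
theorem transport {Λ Λ' : Type (u + 1)} [i : CommRing Λ] [i' : CommRing Λ'] {S S' : Scheme.{u}} (hΛ : Λ = Λ')
    (hi : HEq i i') (hS : S = S') (P : EtModW.Mod Λ S) (P' : EtModW.Mod Λ' S')
    (hP : HEq P P') {c : ℤ}
    (h : Nonempty (Q.obj ((stdDual Λ S).D ((CochainComplex.singleFunctor _ 0).obj P)) ≅
      (Q.obj ((CochainComplex.singleFunctor _ 0).obj P))⟦-c⟧)) :
    Nonempty (Q.obj ((stdDual Λ' S').D ((CochainComplex.singleFunctor _ 0).obj P')) ≅
      (Q.obj ((CochainComplex.singleFunctor _ 0).obj P'))⟦-c⟧) := by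
  subst hΛ
  subst hS
  have hi' := eq_of_heq hi
  subst hi'
  have hP' := eq_of_heq hP
  subst hP'
  exact h

end Gen

section Main

theorem closedPoint_mem (A : Type u) [CommRing A] [HenselianLocalRing A] [IsSepClosed (IsLocalRing.ResidueField A)] :
    (IsLocalRing.closedPoint A : Spec (CommRingCat.of A)) ∈ Set.range (ip A) := by
  rw [EtDual.K336.GlobS.range_ip]
  rfl

theorem exists_isLE_sp {m : ℕ} (hm : 0 < m) (M : ℕ) (K : Type u) [Field K] [IsAlgClosed K] [CharZero K] (b : ℤ) :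
    ∃ B : ℤ, ∀ F : EtModW.Mod (Lam.{u} m) (SP M K),
      (∀ {T' : Scheme.{u}} (g : T' ⟶ SP M K), (∀ y : T', g y ≠ IsLocalRing.closedPoint (MvPowerSeries (Fin M) K)) →
        ∀ q : ℤ, b < q → IsZero ((EtModW.pull (Lam.{u} m) g).obj
          (((stdDual (Lam.{u} m) (SP M K)).D ((CochainComplex.singleFunctor _ 0).obj F)).homology q))) →
      ((stdDual (Lam.{u} m) (SP M K)).D ((CochainComplex.singleFunctor _ 0).obj F)).IsLE B := by
  have : NeZero m := ⟨hm.ne'⟩
  have hinj := ModPoint.injective_zmod.{u} m hm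
  have hcl : IsClosedImmersion (ip (MvPowerSeries (Fin M) K)) :=
    IsClosedImmersion.spec_of_surjective _ IsLocalRing.residue_surjective
  have hr : Set.range (Up (MvPowerSeries (Fin M) K)).ι = (Set.range (ip (MvPowerSeries (Fin M) K)))ᶜ :=
    isCompl_ip.compl_eq.symm
  have hP : Injective (PP (MvPowerSeries (Fin M) K) (EtDual.K336.GlobS.Lam.{u} m)) := injective_PP _
  have hI : Projective (EtModW.constMod (EtDual.K336.GlobS.Lam.{u} m) (Spec (CommRingCat.of (MvPowerSeries (Fin M) K)))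
    (EtDual.K336.GlobS.Lam.{u} m)) := projective_constMod _
  exact exists_isLE_gen (Λ := Lam.{u} m) (S := SP M K) (Up (MvPowerSeries (Fin M) K)).ι (ip (MvPowerSeries (Fin M) K)) hr
    (IsLocalRing.closedPoint (MvPowerSeries (Fin M) K)) (closedPoint_mem _) BdTop.isZero_of_hom
    (PP (MvPowerSeries (Fin M) K) (EtDual.K336.GlobS.Lam.{u} m)) (Iso.refl _) hm (EtDual.K336.GlobS.lam_zero m)
    (transport (Λ := EtDual.K336.GlobS.Lam.{u} m) (Λ' := Lam.{u} m)
      (S := Spec (CommRingCat.of (MvPowerSeries (Fin M) K))) (S' := SP M K) rfl HEq.rfl rfl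
      (PP (MvPowerSeries (Fin M) K) (EtDual.K336.GlobS.Lam.{u} m))
      (PP (MvPowerSeries (Fin M) K) (EtDual.K336.GlobS.Lam.{u} m)) HEq.rfl (EtDual.K336.SPg.dP m M K))
    (K141.BdCd.exists_cohDim M K) b

/-- **The uniform bound** on `Spec K[[x_1, …, x_(M + 1)]]`. -/
theorem exists_isLE {m : ℕ} (hm : 0 < m) (M : ℕ) (K : Type u) [Field K] [IsAlgClosed K] [CharZero K]
    (hB : ∀ c ≤ M, BidSP.{u} m c) :
    ∃ B : ℤ, ∀ F : EtModW.Mod (Lam.{u} m) (SP (M + 1) K), EtModW.IsConstructible (Lam.{u} m) F →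
      ((stdDual (Lam.{u} m) (SP (M + 1) K)).D ((CochainComplex.singleFunctor _ 0).obj F)).IsLE B := by
  obtain ⟨B, h⟩ := exists_isLE_sp hm (M + 1) K (2 * (M : ℤ))
  exact ⟨B, fun F hF => h F fun g hg q hq => K584.AlgBd.isZero_pull hm M K hB F hF g hg q hq⟩

end Main

end K141.BdMain
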