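import Groth.Agent.EtDepth.K141.BdAbs
import Groth.Agent.EtDepth.K343.ExtOpen
import Groth.Agent.EtDual.K336.GlobZ
import Groth.Agent.EtDepth.K552.OrthD
import Groth.Agent.Sga4h.BidFin

/-!
# A uniform bound for the dual at a closed point

`S = Spec A`, `A` strictly henselian local, `Λ` a self-injective ring killed by `n > 0`, `D (ip_* Λ) ≅ (ip_* Λ)[-c]`, the
étale cohomological dimension of the punctured spectrum `U` being at most `d`.
* `isZero_of_hom`: a sheaf `G` with `G|U = 0` and no global sections is zero;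
* `isLE_D`: if `H^q(D F)|U = 0` for `q > b`, then `D F ∈ D^{≤ max(c, b + d)}`.
-/

set_option autoImplicit false
set_option linter.unusedSectionVars false
universe u

open CategoryTheory CategoryTheory.Limits AlgebraicGeometry Opposite

attribute [local instance 5000] CategoryTheory.Abelian.toPreadditive
  CategoryTheory.Preadditive.preadditiveHasZeroMorphisms

namespace K141.BdTop

attribute [local instance] HasDerivedCategory.standard
open scoped Groth.Agent.Sga4h.ModInst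
open Groth.Agent Groth.Agent.Sga4h Groth.Agent.Sga4h.Refl DerivedCategory
open Groth.Agent.Sga4h.BidRed538Main Groth.Agent.EtDual.K336.StrictS Groth.Agent.EtDual.K336.StrictAbs
open Groth.Agent.EtDual.K336.GlobS (Up isCompl_ip)
open Groth.Agent.Sga4h.ModRestr

variable {Λ : Type (u + 1)} [CommRing Λ]

/-- Vanishing of `Ext^q(Λ, G)` on a scheme of étale cohomological dimension `≤ d`. -/
theorem ext_eq_zero {n : ℕ} (hn : 0 < n) (hΛ : (n : Λ) = 0) {U : Scheme.{u}} (d : ℕ) (hU : EtCoh.CohDimLE U d) (q : ℕ)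
    (hq : d < q) (G : EtModW.Mod Λ U) (e : Abelian.Ext.{u + 1} (EtModW.constMod Λ U Λ) G q) : e = 0 := by
  have ht : EtCoh.IsTorsion ((Etrest.ModAb.ab Λ U).obj G) := by
    intro V s x
    refine ⟨V, 𝟙 V, ⟨x, rfl⟩, ?_⟩
    rw [isOfFinAddOrder_iff_nsmul_eq_zero]
    refine ⟨n, hn, ?_⟩
    have h : ∀ (M : Type (u + 1)) [AddCommGroup M] [Module Λ M] (x : M), n • x = 0 := fun M _ _ x => by
      rw [← Nat.cast_smul_eq_nsmul Λ, hΛ, zero_smul]
    exact h (EtModW.sect Λ G V) _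
  have h1 := hU _ ht q hq
  exact (BidFin.extConstEquiv Λ G q).subsingleton.elim _ _

section Shape

variable {X U Z : Scheme.{u}} (v : U ⟶ X) [IsOpenImmersion v] (b : Z ⟶ X) [IsClosedImmersion b]

/-- `0 ⟶ v_! v^* Λ ⟶ Λ ⟶ b_* Λ ⟶ 0` -/
theorem exists_ses (hr : Set.range v = (Set.range b)ᶜ) (P : EtModW.Mod Λ X)
    (eP : (EtModW.push Λ b).obj (EtModW.constMod Λ Z Λ) ≅ P) :
    ∃ (f : (ext Λ v).obj ((res Λ v).obj (EtModW.constMod Λ X Λ)) ⟶ EtModW.constMod Λ X Λ)
      (g : EtModW.constMod Λ X Λ ⟶ P) (w : f ≫ g = 0), (ShortComplex.mk f g w).ShortExact := by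
  let I := EtModW.constMod Λ X Λ
  have hS := K343.ExtOpen.shortExact_exc v b hr I
  obtain ⟨e0⟩ := LFinClass.nonempty_pull_constMod (Λ := Λ) (M := Λ) b
  let e : (K343.ExtOpen.cb Λ b).obj I ≅ P := (EtModW.push Λ b).mapIso e0 ≪≫ eP
  let f : (ext Λ v).obj ((res Λ v).obj I) ⟶ I := (K343.ExtOpen.ε Λ v).app I
  let g : I ⟶ P := (K343.ExtOpen.ηb Λ b).app I ≫ e.hom
  have w : f ≫ g = 0 := by
    have h := K343.ExtOpen.exc_zero v b hr I
    exact (Category.assoc _ _ _).symm.trans ((congrArg (fun t => t ≫ e.hom) h).trans zero_comp)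
  let S₁ : ShortComplex (EtModW.Mod Λ X) :=
    ShortComplex.mk ((K343.ExtOpen.ε Λ v).app I) ((K343.ExtOpen.ηb Λ b).app I) (K343.ExtOpen.exc_zero v b hr I)
  let S₂ : ShortComplex (EtModW.Mod Λ X) := ShortComplex.mk f g w
  let i : S₁ ≅ S₂ := ShortComplex.isoMk (S₁ := S₁) (S₂ := S₂) (Iso.refl _) (Iso.refl _) e
      ((Category.id_comp _).trans (Category.comp_id _).symm) (Category.id_comp _)
  exact ⟨f, g, w, ShortComplex.shortExact_of_iso i hS⟩

theorem ext_res_eq_zero {n : ℕ} (hn : 0 < n) (hΛ : (n : Λ) = 0) (d : ℕ) (hd : EtCoh.CohDimLE U d) (m : ℕ)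
    (Z : EtModW.Mod Λ U) (hm : d < m)
    (x : Abelian.Ext.{u + 1} ((res Λ v).obj (EtModW.constMod Λ X Λ)) Z m) : x = 0 := by
  have i : (res Λ v).obj (EtModW.constMod Λ X Λ) ≅ EtModW.constMod Λ U Λ := resConst Λ v Λ
  have h1 : (Abelian.Ext.mk₀ i.inv).comp x (zero_add m) = 0 := ext_eq_zero hn hΛ d hd m hm Z _
  have h2 : (Abelian.Ext.mk₀ i.hom).comp ((Abelian.Ext.mk₀ i.inv).comp x (zero_add m)) (zero_add m) = x := by
    rw [Abelian.Ext.mk₀_comp_mk₀_assoc, Iso.hom_inv_id, Abelian.Ext.mk₀_id_comp]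
  rw [← h2, h1, Abelian.Ext.comp_zero]

end Shape

section Hom

variable {X U Z : Scheme.{u}} (v : U ⟶ X) [IsOpenImmersion v] (b : Z ⟶ X) [IsClosedImmersion b]

/-- Vanishing of `Hom(Λ, (D F)[q])`. -/
theorem eq_zero_hom (hr : Set.range v = (Set.range b)ᶜ)
    (P : EtModW.Mod Λ X) (eP : (EtModW.push Λ b).obj (EtModW.constMod Λ Z Λ) ≅ P) [Injective P]
    {n : ℕ} (hn : 0 < n) (hΛ : (n : Λ) = 0) {c : ℤ}
    (dP : Nonempty (Q.obj ((stdDual Λ X).D ((CochainComplex.singleFunctor _ 0).obj P)) ≅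
      (Q.obj ((CochainComplex.singleFunctor _ 0).obj P))⟦-c⟧))
    (d : ℕ) (hd : EtCoh.CohDimLE U d) (F : EtModW.Mod Λ X)
    (t : ℤ) (hb : ∀ q, t < q → IsZero ((res Λ v).obj
      (((stdDual Λ X).D ((CochainComplex.singleFunctor _ 0).obj F)).homology q)))
    (q : ℤ) (h1 : c < q) (h2 : t + d < q)
    (φ : (singleFunctor _ 0).obj (EtModW.constMod Λ X Λ) ⟶
      (Q.obj ((stdDual Λ X).D ((CochainComplex.singleFunctor _ 0).obj F)))⟦q⟧) : φ = 0 := by
  obtain ⟨f, g, w, hS⟩ := exists_ses (Λ := Λ) v b hr P eP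
  exact K141.BdAbs.eq_zero_unit (stdDual Λ X)
    (extResAdj Λ v) dP f g w hS d (ext_res_eq_zero v hn hΛ d hd) F t hb q h1 h2 φ

/-- Vanishing of `Hom(Λ, H^q(D F))`. -/
theorem eq_zero_homology [Projective (EtModW.constMod Λ X Λ)] (hr : Set.range v = (Set.range b)ᶜ)
    (P : EtModW.Mod Λ X) (eP : (EtModW.push Λ b).obj (EtModW.constMod Λ Z Λ) ≅ P) [Injective P]
    {n : ℕ} (hn : 0 < n) (hΛ : (n : Λ) = 0) {c : ℤ}
    (dP : Nonempty (Q.obj ((stdDual Λ X).D ((CochainComplex.singleFunctor _ 0).obj P)) ≅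
      (Q.obj ((CochainComplex.singleFunctor _ 0).obj P))⟦-c⟧))
    (d : ℕ) (hd : EtCoh.CohDimLE U d) (F : EtModW.Mod Λ X)
    (t : ℤ) (hb : ∀ q, t < q → IsZero ((res Λ v).obj
      (((stdDual Λ X).D ((CochainComplex.singleFunctor _ 0).obj F)).homology q)))
    (q : ℤ) (h1 : c < q) (h2 : t + d < q)
    (φ : EtModW.constMod Λ X Λ ⟶ ((stdDual Λ X).D ((CochainComplex.singleFunctor _ 0).obj F)).homology q) :
    φ = 0 :=
  K141.BdAbs.eq_zero_homology (EtModW.constMod Λ X Λ) ((stdDual Λ X).D ((CochainComplex.singleFunctor _ 0).obj F)) q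
    (eq_zero_hom v b hr P eP hn hΛ dP d hd F t hb q h1 h2) φ

theorem isLE_of_isZero (Y : CochainComplex (EtModW.Mod Λ X) ℤ) (B : ℤ) (h : ∀ q, B < q → IsZero (Y.homology q)) :
    Y.IsLE B := by
  rw [CochainComplex.isLE_iff]
  intro q hq
  rw [HomologicalComplex.exactAt_iff_isZero_homology]
  exact h q hq

end Hom

variable {A : Type u} [CommRing A] [HenselianLocalRing A] [IsSepClosed (IsLocalRing.ResidueField A)]

/-- A sheaf without global sections which vanishes outside of the closed point is zero. -/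
theorem isZero_of_hom (G : EtModW.Mod Λ (Spec (CommRingCat.of A)))
    (h1 : IsZero ((res Λ (Up A).ι).obj G))
    (h2 : ∀ f : EtModW.constMod Λ _ Λ ⟶ G, f = 0) : IsZero G := by
  have hcl : IsClosedImmersion (ip A) := IsClosedImmersion.spec_of_surjective _ IsLocalRing.residue_surjective
  have hr : Set.range (Up A).ι = (Set.range (ip A))ᶜ := isCompl_ip.compl_eq.symm
  have hS := K343.ExtOpen.shortExact_exc (Up A).ι (ip A) hr G
  have h0 : IsZero ((K343.ExtOpen.eo Λ (Up A).ι).obj G) := (ext Λ (Up A).ι).map_isZero h1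
  have hi : IsIso ((K343.ExtOpen.ηb Λ (ip A)).app G) := hS.isIso_g_iff.2 h0
  let H := (EtModW.pull Λ (ip A)).obj G
  have h3 : Subsingleton (EtModW.constMod Λ _ Λ ⟶ G) := ⟨fun a b => (h2 a).trans (h2 b).symm⟩
  have h4 : Subsingleton (EtModW.sect Λ H (EtCoh.top _)) := by
    obtain ⟨e1⟩ := nonempty_sect A G
    exact ((homConstAddEquiv G).trans e1).symm.toEquiv.subsingleton
  have h5 : IsZero H := by
    rw [IsZero.iff_id_eq_zero]
    apply (ModPoint.Γ Λ (Spec (CommRingCat.of (IsLocalRing.ResidueField A)))).map_injective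
    ext x
    exact h4.elim _ _
  exact ((EtModW.push Λ (ip A)).map_isZero h5).of_iso
    (@asIso _ _ _ _ ((K343.ExtOpen.ηb Λ (ip A)).app G) hi)

variable (A) in
/-- **The bound.** -/
theorem isZero_homology_D [Injective (ModuleCat.of Λ Λ)] {n : ℕ} (hn : 0 < n) (hΛ : (n : Λ) = 0) {c : ℤ}
    (dP : Nonempty (Q.obj ((stdDual Λ (Spec (CommRingCat.of A))).D ((CochainComplex.singleFunctor _ 0).obj (PP A Λ))) ≅
      (Q.obj ((CochainComplex.singleFunctor _ 0).obj (PP A Λ)))⟦-c⟧))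
    (d : ℕ) (hd : EtCoh.CohDimLE (Up A : Scheme.{u}) d) (F : EtModW.Mod Λ (Spec (CommRingCat.of A)))
    (b : ℤ) (hb : ∀ q, b < q → IsZero ((res Λ (Up A).ι).obj
      (((stdDual Λ (Spec (CommRingCat.of A))).D ((CochainComplex.singleFunctor _ 0).obj F)).homology q)))
    (q : ℤ) (h0 : b < q) (h1 : c < q) (h2 : b + d < q) :
    IsZero (((stdDual Λ (Spec (CommRingCat.of A))).D ((CochainComplex.singleFunctor _ 0).obj F)).homology q) := by
  have hcl : IsClosedImmersion (ip A) := IsClosedImmersion.spec_of_surjective _ IsLocalRing.residue_surjective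
  have hr : Set.range (Up A).ι = (Set.range (ip A))ᶜ := isCompl_ip.compl_eq.symm
  have hP : Injective (PP A Λ) := injective_PP A
  have hI : Projective (EtModW.constMod Λ (Spec (CommRingCat.of A)) Λ) := projective_constMod A
  exact isZero_of_hom _ (hb q h0) (eq_zero_homology (Up A).ι (ip A) hr (PP A Λ) (Iso.refl _) hn hΛ dP d hd F b hb q h1 h2)

variable (A) in
/-- **The bound.** -/
theorem isLE_D [Injective (ModuleCat.of Λ Λ)] {n : ℕ} (hn : 0 < n) (hΛ : (n : Λ) = 0) {c : ℤ}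
    (dP : Nonempty (Q.obj ((stdDual Λ (Spec (CommRingCat.of A))).D ((CochainComplex.singleFunctor _ 0).obj (PP A Λ))) ≅
      (Q.obj ((CochainComplex.singleFunctor _ 0).obj (PP A Λ)))⟦-c⟧))
    (d : ℕ) (hd : EtCoh.CohDimLE (Up A : Scheme.{u}) d) (F : EtModW.Mod Λ (Spec (CommRingCat.of A)))
    (b : ℤ) (hb : ∀ q, b < q → IsZero ((res Λ (Up A).ι).obj
      (((stdDual Λ (Spec (CommRingCat.of A))).D ((CochainComplex.singleFunctor _ 0).obj F)).homology q)))
    (B : ℤ) (hB1 : c ≤ B) (hB2 : b + d ≤ B) :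
    ((stdDual Λ (Spec (CommRingCat.of A))).D ((CochainComplex.singleFunctor _ 0).obj F)).IsLE B :=
  isLE_of_isZero _ B fun q hq => isZero_homology_D A hn hΛ dP d hd F b hb q (by omega) (by omega) (by omega)

end K141.BdTop
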